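import Mathlib
import Cfsg.Agent.Lib.Solvable.UniqueSubgroup
import Cfsg.Agent.Lib.PGroup.Basic

/-!
# Half-transitive `p`-groups of linear maps: sums over cyclic groups, eigenspaces of a normal plane
-/

set_option autoImplicit false

namespace CfsgLib.HalfTransP

open Finset

variable {q : ℕ} [Fact q.Prime] {V : Type*} [AddCommGroup V] [Module (ZMod q) V]
  {G : Type*} [Group G] (ρ : G →* (V ≃ₗ[ZMod q] V))

theorem act_mul (g h : G) (v : V) : ρ (g * h) v = ρ g (ρ h v) := by rw [map_mul]; rfl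

theorem act_one (v : V) : ρ 1 v = v := by rw [map_one]; rfl

/-- The stabiliser of a vector. -/
def stab (v : V) : Subgroup G where
  carrier := {g | ρ g v = v}
  one_mem' := act_one ρ v
  mul_mem' {a b} ha hb := by
    show ρ (a * b) v = v
    rw [act_mul, hb, ha]
  inv_mem' {a} ha := by
    show ρ a⁻¹ v = v
    conv_lhs => rw [← ha, ← act_mul, inv_mul_cancel, act_one]

theorem mem_stab {g : G} {v : V} : g ∈ stab ρ v ↔ ρ g v = v := Iff.rfl

/-- Orbit times stabiliser. -/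
theorem card_orbit_mul [Finite G] (v : V) :
    Nat.card {u : V | ∃ g : G, ρ g v = u} * Nat.card (stab ρ v) = Nat.card G := by
  letI : MulAction G V := MulAction.compHom V ρ
  have h1 : {u : V | ∃ g : G, ρ g v = u} = MulAction.orbit G v := rfl
  have h2 : stab ρ v = MulAction.stabilizer G v := rfl
  rw [h1, h2, Nat.card_coe_set_eq, ← MulAction.index_stabilizer, mul_comm, Subgroup.card_mul_index]

/-- The sum over the powers of an element. -/
def T (p : ℕ) (g : G) (v : V) : V := ∑ i ∈ range p, ρ (g ^ i) v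

theorem T_fixed {p : ℕ} {g : G} (hg : g ^ p = 1) (v : V) : ρ g (T ρ p g v) = T ρ p g v := by
  have h1 := sum_range_succ (fun i => ρ (g ^ i) v) p
  have h2 := sum_range_succ' (fun i => ρ (g ^ i) v) p
  rw [h1, hg, pow_zero] at h2
  rw [T, map_sum]
  conv_lhs => arg 2; ext i; rw [← act_mul, ← pow_succ']
  exact (add_right_cancel h2).symm

theorem T_of_fixed {p : ℕ} {g : G} {v : V} (hv : ρ g v = v) : T ρ p g v = p • v := by
  have h : ∀ i : ℕ, ρ (g ^ i) v = v := fun i => (mem_stab ρ).1 (pow_mem ((mem_stab ρ).2 hv) i)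
  simp only [T, h, sum_const, card_range]

theorem T_add {p : ℕ} (g : G) (v w : V) : T ρ p g (v + w) = T ρ p g v + T ρ p g w := by
  simp [T, sum_add_distrib]

theorem T_zero {p : ℕ} (g : G) : T ρ p g 0 = 0 := by
  simp only [T, map_zero, sum_const_zero]

theorem T_comm {p : ℕ} {g h : G} (hc : Commute g h) (v : V) : ρ h (T ρ p g v) = T ρ p g (ρ h v) := by
  rw [T, T, map_sum]
  refine sum_congr rfl fun i _ => ?_
  rw [← act_mul, ← act_mul, (hc.pow_left i).eq]

variable {p : ℕ} [hp : Fact p.Prime]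

theorem eq_zero_of_nsmul (hpq : p ≠ q) {v : V} (h : p • v = 0) : v = 0 := by
  rw [← Nat.cast_smul_eq_nsmul (ZMod q)] at h
  refine (smul_eq_zero.1 h).resolve_left fun h0 => hpq ?_
  exact ((Nat.prime_dvd_prime_iff_eq (Fact.out : q.Prime) hp.out).1 ((ZMod.natCast_eq_zero_iff _ _).1 h0)).symm

/-- A fixed-point-free element of order `p`. -/
structure Central (p : ℕ) (z : G) : Prop where
  order : orderOf z = p
  comm : ∀ g, Commute g z
  free : ∀ v : V, ρ z v = v → v = 0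

variable {ρ} {z : G}

theorem Central.pow_free (hz : Central ρ p z) {ζ : G} (hζ : ζ ∈ Subgroup.zpowers z) (h1 : ζ ≠ 1) {v : V}
    (hv : ρ ζ v = v) : v = 0 := by
  refine hz.free v ((mem_stab ρ).1 ?_)
  have h2 := mem_zpowers_of_prime_card (G := Subgroup.zpowers z) (p := p) (g := ⟨ζ, hζ⟩)
    (g' := ⟨z, Subgroup.mem_zpowers z⟩) (by rw [Nat.card_zpowers, hz.order])
    (fun h => h1 (congrArg Subtype.val h))
  obtain ⟨i, hi⟩ := h2
  have h3 : ζ ^ i = z := by simpa using congrArg Subtype.val hi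
  rw [← h3]
  exact Subgroup.zpow_mem _ ((mem_stab ρ).2 hv) i

/-- Averaging over the lines of a plane. -/
theorem Central.sum_T (hz : Central ρ p z) {e : G} (he : e ^ p = 1) (v : V) :
    ∑ i ∈ range p, T ρ p (e * z ^ i) v = p • v := by
  have hc : Commute e z := hz.comm e
  unfold T
  rw [sum_comm]
  rw [Finset.sum_eq_single_of_mem 0 (mem_range.2 hp.out.pos) fun j hj hj0 => ?_]
  · simp [act_one]
  · have e1 : ∀ i : ℕ, ρ ((e * z ^ i) ^ j) v = ρ (e ^ j) (ρ ((z ^ j) ^ i) v) := fun i => by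
      rw [(hc.pow_right i).mul_pow, act_mul, ← pow_mul, ← pow_mul, mul_comm i j]
    simp only [e1]
    rw [← map_sum]
    have hzj : z ^ j ≠ 1 := fun h => by
      have hd := Nat.le_of_dvd (Nat.pos_of_ne_zero hj0) (orderOf_dvd_of_pow_eq_one h)
      rw [hz.order] at hd
      have := mem_range.1 hj
      omega
    have h0 : (∑ i ∈ range p, ρ ((z ^ j) ^ i) v) = 0 :=
      hz.pow_free (pow_mem (Subgroup.mem_zpowers z) j) hzj
        (T_fixed ρ (by rw [← pow_mul, mul_comm, pow_mul, ← hz.order, pow_orderOf_eq_one, one_pow]) v)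
    rw [h0, map_zero]

/-- An element spanning a normal plane with the central one. -/
structure Plane (p : ℕ) (z e : G) : Prop where
  pow_e : e ^ p = 1
  notMem : e ∉ Subgroup.zpowers z
  conj : ∀ g : G, e⁻¹ * (g * e * g⁻¹) ∈ Subgroup.zpowers z

variable {e : G}

theorem Plane.mul_pow (he : Plane p z e) (hz : Central ρ p z) {ζ : G} (hζ : ζ ∈ Subgroup.zpowers z) :
    (e * ζ) ^ p = 1 := by
  obtain ⟨i, rfl⟩ := hζ
  show (e * z ^ i) ^ p = 1
  rw [((hz.comm e).zpow_right i).mul_pow, he.pow_e, one_mul, ← zpow_natCast, ← zpow_mul, mul_comm, zpow_mul,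
    zpow_natCast, ← hz.order, pow_orderOf_eq_one, one_zpow]

theorem Plane.T_of_ne (he : Plane p z e) (hz : Central ρ p z) {ζ η : G} (hζ : ζ ∈ Subgroup.zpowers z)
    (hη : η ∈ Subgroup.zpowers z) (hne : ζ ≠ η) {v : V} (hv : ρ (e * η) v = v) : T ρ p (e * ζ) v = 0 := by
  have hcomm : Commute (e * ζ) (e * η) := by
    obtain ⟨i, rfl⟩ := hζ
    obtain ⟨j, rfl⟩ := hη
    exact ((Commute.refl e).mul_left ((hz.comm e).symm.zpow_left i)).mul_right
      (((hz.comm e).zpow_right j).mul_left (((Commute.refl z).zpow_zpow i j)))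
  set w := T ρ p (e * ζ) v
  have h1 : ρ (e * ζ) w = w := T_fixed ρ (he.mul_pow hz hζ) v
  have h2 : ρ (e * η) w = w := by rw [T_comm ρ hcomm, hv]
  refine hz.pow_free (mul_mem (inv_mem hζ) hη) (fun h => hne (inv_mul_eq_one.1 h)) ?_
  have h3 : (e * ζ)⁻¹ * (e * η) ∈ stab ρ w := mul_mem (inv_mem ((mem_stab ρ).2 h1)) ((mem_stab ρ).2 h2)
  rwa [show (e * ζ)⁻¹ * (e * η) = ζ⁻¹ * η by group] at h3

/-- Eigenvectors move by conjugation. -/
theorem Plane.move (hz : Central ρ p z) (g : G) {ζ : G} (hζ : ζ ∈ Subgroup.zpowers z) {v : V}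
    (hv : ρ (e * ζ) v = v) : ρ (e * (e⁻¹ * (g * e * g⁻¹) * ζ)) (ρ g v) = ρ g v := by
  obtain ⟨i, rfl⟩ := hζ
  show ρ (e * (e⁻¹ * (g * e * g⁻¹) * z ^ i)) (ρ g v) = ρ g v
  rw [show e * (e⁻¹ * (g * e * g⁻¹) * z ^ i) = g * e * (g⁻¹ * z ^ i) by group,
    ((hz.comm g⁻¹).zpow_right i).eq, ← act_mul]
  rw [show g * e * (z ^ i * g⁻¹) * g = g * (e * z ^ i) by group, act_mul, hv]

theorem Plane.exists_comp (he : Plane p z e) (hz : Central ρ p z) (hpq : p ≠ q) {v : V} (hv : v ≠ 0) :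
    ∃ ζ ∈ Subgroup.zpowers z, ∃ x : V, x ≠ 0 ∧ ρ (e * ζ) x = x := by
  by_contra h
  push Not at h
  refine hv (eq_zero_of_nsmul hpq ?_)
  rw [← hz.sum_T he.pow_e v]
  refine sum_eq_zero fun i _ => ?_
  by_contra hx
  exact h _ (pow_mem (Subgroup.mem_zpowers z) i) _ hx
    (T_fixed ρ (he.mul_pow hz (pow_mem (Subgroup.mem_zpowers z) i)) v)

end CfsgLib.HalfTransP
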