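import Cfsg.Agent.Lib.Techniques.HalfTrans.Basic
import Cfsg.Agent.Lib.PGroup.NormalRankOne

/-!
# Half-transitive `p`-groups: the semiregular case, central elements, the plane
-/

set_option autoImplicit false

namespace CfsgLib.HalfTransP

open Finset

variable {q : ℕ} [Fact q.Prime] {V : Type*} [AddCommGroup V] [Module (ZMod q) V]
  {G : Type*} [Group G] [Finite G] {ρ : G →* (V ≃ₗ[ZMod q] V)} {p : ℕ} [hp : Fact p.Prime]

/-- All stabilisers of nonzero vectors have the same order, which is not one. -/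
structure Half (ρ : G →* (V ≃ₗ[ZMod q] V)) : Prop where
  inj : Function.Injective ρ
  const : ∀ v w : V, v ≠ 0 → w ≠ 0 → Nat.card (stab ρ v) = Nat.card (stab ρ w)
  ne_bot : ∀ v : V, v ≠ 0 → stab ρ v ≠ ⊥

theorem card_stab_eq [Finite V] (hhalf : ∀ v w : V, v ≠ 0 → w ≠ 0 →
    Nat.card {u : V | ∃ g : G, ρ g v = u} = Nat.card {u : V | ∃ g : G, ρ g w = u})
    (v w : V) (hv : v ≠ 0) (hw : w ≠ 0) : Nat.card (stab ρ v) = Nat.card (stab ρ w) := by
  have h1 := card_orbit_mul ρ v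
  have h2 := card_orbit_mul ρ w
  rw [← h2, hhalf v w hv hw] at h1
  refine Nat.eq_of_mul_eq_mul_left (Nat.pos_of_ne_zero fun h0 => ?_) h1
  rw [h0, zero_mul] at h2
  exact Nat.card_pos.ne h2

/-- If `z` is central of order `p` and all `z`-multiples of `x` move every vector, then `x` is a power of `z`. -/
theorem mem_zpowers_of_free [Nontrivial V] (hpq : p ≠ q) {z x : G} (hz : Central ρ p z) (hx : x ^ p = 1)
    (hfree : ∀ i : ℕ, ∀ v : V, x * z ^ i ≠ 1 → ρ (x * z ^ i) v = v → v = 0) : x ∈ Subgroup.zpowers z := by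
  by_contra hxz
  obtain ⟨v, hv⟩ := exists_ne (0 : V)
  refine hv (eq_zero_of_nsmul hpq ?_)
  rw [← hz.sum_T hx v]
  refine sum_eq_zero fun i _ => hfree i _ (fun h => hxz ?_) (T_fixed ρ ?_ v)
  · rw [eq_inv_of_mul_eq_one_left h]
    exact inv_mem (pow_mem (Subgroup.mem_zpowers z) i)
  · rw [((hz.comm x).pow_right i).mul_pow, hx, one_mul, ← pow_mul, mul_comm, pow_mul, ← hz.order, pow_orderOf_eq_one,
      one_pow]

theorem exists_center_order (hG : IsPGroup p G) [Nontrivial G] :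
    ∃ z : G, orderOf z = p ∧ ∀ g : G, Commute g z := by
  obtain ⟨z, hz, ho⟩ := CfsgLib.PGroup.exists_orderOf_eq hG (H := Subgroup.center G)
    (fun h => by haveI := hG.center_nontrivial; exact not_nontrivial (⊥ : Subgroup G) (h ▸ this))
  exact ⟨z, ho, fun g => (Subgroup.mem_center_iff.1 hz g)⟩

/-- Semiregular `p`-groups are cyclic or generalized quaternion. -/
theorem semiregular_case [Nontrivial V] (hpq : p ≠ q) (hG : IsPGroup p G)
    (hs : ∀ v : V, v ≠ 0 → stab ρ v = ⊥) : IsCyclic G ∨ ∃ n : ℕ, Nonempty (G ≃* QuaternionGroup n) := by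
  rcases subsingleton_or_nontrivial G with hS | hN
  · exact Or.inl isCyclic_of_subsingleton
  obtain ⟨z, hzo, hzc⟩ := exists_center_order hG
  have hfree : ∀ g : G, g ≠ 1 → ∀ v : V, ρ g v = v → v = 0 := fun g hg v hgv => by
    by_contra hv
    exact hg (Subgroup.mem_bot.1 ((hs v hv).le hgv))
  have hz : Central ρ p z := ⟨hzo, hzc, hfree z fun h => hp.out.ne_one (by rw [← hzo, h, orderOf_one])⟩
  have hmem : ∀ x : G, orderOf x = p → x ∈ Subgroup.zpowers z := fun x hx =>
    mem_zpowers_of_free hpq hz (by rw [← hx, pow_orderOf_eq_one]) fun i v h => hfree _ h v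
  rcases CfsgLib.Solvable.isCyclic_or_quaternion hG (fun x y hx hy => by
    rw [show Subgroup.zpowers y = Subgroup.zpowers z from
      Subgroup.eq_of_le_of_card_ge (Subgroup.zpowers_le.2 (hmem y hy))
        (by rw [Nat.card_zpowers, Nat.card_zpowers, hy, hzo])]
    exact hmem x hx) with h | ⟨-, n, h⟩
  · exact Or.inl h
  · exact Or.inr ⟨_, h⟩

theorem Half.stab_eq (hh : Half ρ) [Finite V] {a b : V} (ha : a ≠ 0) (hb : b ≠ 0) (hab : a + b ≠ 0)
    (hle : stab ρ (a + b) ≤ stab ρ a ⊓ stab ρ b) : stab ρ a = stab ρ b := by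
  have h1 : stab ρ (a + b) = stab ρ a :=
    Subgroup.eq_of_le_of_card_ge (hle.trans inf_le_left) (hh.const _ _ ha hab).le
  have h2 : stab ρ (a + b) = stab ρ b :=
    Subgroup.eq_of_le_of_card_ge (hle.trans inf_le_right) (hh.const _ _ hb hab).le
  exact h1.symm.trans h2

theorem Half.false_of_fixes_all (hh : Half ρ) {a : V} (ha : a ≠ 0) (h : ∀ v : V, ∀ g ∈ stab ρ a, ρ g v = v) :
    False :=
  hh.ne_bot a ha ((Subgroup.eq_bot_iff_forall _).2 fun g hg => hh.inj (by
    rw [map_one]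
    exact LinearEquiv.ext fun v => h v g hg))

theorem eq_of_nsmul_eq (hpq : p ≠ q) {v w : V} (h : p • v = p • w) : v = w :=
  sub_eq_zero.1 (eq_zero_of_nsmul hpq (by rw [nsmul_sub, h, sub_self]))

/-- A central element of order `p` is fixed point free. -/
theorem Half.central (hh : Half ρ) [Finite V] (hpq : p ≠ q) {z : G} (hzo : orderOf z = p)
    (hzc : ∀ g : G, Commute g z) : Central ρ p z := by
  refine ⟨hzo, hzc, fun w hw => ?_⟩
  by_contra hw0
  have hzp : z ^ p = 1 := by rw [← hzo, pow_orderOf_eq_one]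
  obtain ⟨v, hv⟩ : ∃ v, ρ z v ≠ v := by
    by_contra hc
    push Not at hc
    refine hp.out.ne_one ?_
    rw [← hzo, orderOf_eq_one_iff]
    exact hh.inj (by rw [map_one]; exact LinearEquiv.ext hc)
  have hnat : ∀ (g : G) (x : V), ρ g (p • x) = p • ρ g x := fun g x => map_nsmul (ρ g) p x
  have hTn : ∀ x : V, T ρ p z (p • x) = p • T ρ p z x := fun x => by
    simp only [T, hnat, smul_sum]
  have hTsub : ∀ x : V, T ρ p z (p • x - T ρ p z x) = 0 := fun x => by
    have h1 := T_add ρ z (p := p) (p • x - T ρ p z x) (T ρ p z x)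
    rw [sub_add_cancel, hTn, T_of_fixed ρ (T_fixed ρ hzp x)] at h1
    exact add_right_cancel (b := p • T ρ p z x) (by rw [zero_add]; exact h1.symm)
  have key : ∀ a b : V, a ≠ 0 → b ≠ 0 → ρ z a = a → T ρ p z b = 0 → stab ρ a = stab ρ b := by
    intro a b ha hb hza hTb
    have hTab : T ρ p z (a + b) = p • a := by rw [T_add, T_of_fixed ρ hza, hTb, add_zero]
    refine hh.stab_eq ha hb (fun h0 => ha (eq_zero_of_nsmul hpq ?_)) fun g hg => ?_
    · rw [← hTab, h0]
      simp [T]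
    · have hga : ρ g a = a := by
        refine eq_of_nsmul_eq hpq ?_
        rw [← hnat, ← hTab, T_comm ρ (hzc g).symm, (mem_stab ρ).1 hg]
      refine Subgroup.mem_inf.2 ⟨hga, ?_⟩
      have h2 := (mem_stab ρ).1 hg
      rw [map_add, hga] at h2
      exact add_left_cancel h2
  set u := p • v - T ρ p z v with hu
  have hu0 : u ≠ 0 := fun h0 => hv (eq_of_nsmul_eq hpq (by
    rw [← hnat, sub_eq_zero.1 h0, T_fixed ρ hzp]))
  refine hh.false_of_fixes_all hw0 fun x g hg => eq_of_nsmul_eq hpq ?_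
  have h1 : ρ g (T ρ p z x) = T ρ p z x := by
    by_cases h0 : T ρ p z x = 0
    · rw [h0, map_zero]
    · rw [key w u hw0 hu0 hw (hTsub v), ← key _ u h0 hu0 (T_fixed ρ hzp x) (hTsub v)] at hg
      exact hg
  have h2 : ρ g (p • x - T ρ p z x) = p • x - T ρ p z x := by
    by_cases h0 : p • x - T ρ p z x = 0
    · rw [h0, map_zero]
    · rw [key w _ hw0 h0 hw (hTsub x)] at hg
      exact hg
  rw [← hnat, ← sub_add_cancel (p • x) (T ρ p z x), map_add, h2, h1]

/-- A normal plane through a central element of order `p`. -/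
theorem exists_plane (hG : IsPGroup p G) {z : G} (hz : orderOf z = p) (hzc : ∀ g : G, Commute g z)
    {A : Subgroup G} (hAn : A.Normal) (hA : IsMulCommutative A) (hAc : ¬ IsCyclic A) :
    ∃ e : G, Plane p z e := by
  have hc : ∀ x y : A, x * y = y * x := hA.is_comm.comm
  let E : Subgroup G :=
    { carrier := {a | a ∈ A ∧ a ^ p = 1}
      one_mem' := ⟨one_mem _, one_pow _⟩
      mul_mem' := fun {a b} ha hb => ⟨mul_mem ha.1 hb.1, by
        rw [(show Commute a b from congrArg Subtype.val (hc ⟨a, ha.1⟩ ⟨b, hb.1⟩)).mul_pow, ha.2, hb.2, one_mul]⟩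
      inv_mem' := fun {a} ha => ⟨inv_mem ha.1, by rw [inv_pow, ha.2, inv_one]⟩ }
  have hEn : E.Normal := ⟨fun a ha g => ⟨hAn.conj_mem a ha.1 g, by rw [conj_pow, ha.2, mul_one, mul_inv_cancel]⟩⟩
  set Z := Subgroup.zpowers z with hZ
  have hEZ : ¬ E ≤ Z := by
    intro hle
    refine hAc (CfsgLib.Solvable.isCyclic_of_unique_of_comm (hG.to_subgroup A) hc fun x y hx hy => ?_)
    have hy' : (y : G) ∈ Z := hle ⟨y.2, by rw [← hy, ← Subgroup.orderOf_coe, pow_orderOf_eq_one]⟩
    have hx' : (x : G) ∈ Z := hle ⟨x.2, by rw [← hx, ← Subgroup.orderOf_coe, pow_orderOf_eq_one]⟩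
    have h1 : Subgroup.zpowers (y : G) = Z := Subgroup.eq_of_le_of_card_ge (Subgroup.zpowers_le.2 hy') (by
      rw [Nat.card_zpowers, Nat.card_zpowers, Subgroup.orderOf_coe, hy, hz])
    obtain ⟨i, hi⟩ := h1.ge hx'
    exact ⟨i, Subtype.ext (by simpa using hi)⟩
  haveI : Z.Normal := ⟨fun a ha g => by
    obtain ⟨i, rfl⟩ := ha
    show g * z ^ i * g⁻¹ ∈ Z
    rw [((hzc g).zpow_right i).eq, mul_inv_cancel_right]
    exact Subgroup.zpow_mem _ (Subgroup.mem_zpowers z) i⟩
  let π := QuotientGroup.mk' Z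
  haveI : (E.map π).Normal := hEn.map π (QuotientGroup.mk'_surjective Z)
  have hne : E.map π ≠ ⊥ := fun h => hEZ (by
    have := (Subgroup.map_eq_bot_iff E).1 h
    rwa [QuotientGroup.ker_mk'] at this)
  obtain ⟨x, hx, hx1⟩ := (Subgroup.bot_or_exists_ne_one _).resolve_left
    (CfsgLib.PGroup.inf_center_ne_bot (hG.to_quotient Z) (E.map π) hne)
  obtain ⟨⟨e, he, rfl⟩, hxc⟩ := hx
  refine ⟨e, he.2, fun h => hx1 ((QuotientGroup.eq_one_iff e).2 h), fun g => ?_⟩
  refine QuotientGroup.eq.1 ?_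
  show π e = π (g * e * g⁻¹)
  rw [map_mul, map_mul, Subgroup.mem_center_iff.1 hxc (π g), map_inv, mul_inv_cancel_right]

end CfsgLib.HalfTransP
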