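import Cfsg.Agent.Lib.Techniques.HalfTrans.Plane

/-!
# Half-transitive dihedral and semidihedral groups
-/

set_option autoImplicit false

namespace CfsgLib.HalfTransP

open Finset

variable {q : ℕ} [Fact q.Prime] {V : Type*} [AddCommGroup V] [Module (ZMod q) V] [Finite V]
  {G : Type*} [Group G] [Finite G] {ρ : G →* (V ≃ₗ[ZMod q] V)}

/-- A `2`-group with a cyclic subgroup of index two acting half-transitively: the dimension is two. -/
theorem maximal_case [Nontrivial V] (hh : Half ρ) (hq : q ≠ 2) {a s : G} {m : ℕ} {r : ℤ}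
    (ha : orderOf a = 2 ^ (m + 2)) (hG : Nat.card G = 2 ^ (m + 3)) (hs : s ∉ Subgroup.zpowers a) (hss : s * s = 1)
    (hsa : s * a * s⁻¹ = a ^ r) (hr : r = -1 ∨ (1 ≤ m ∧ r = 2 ^ (m + 1) - 1)) :
    Nat.card V = q ^ 2 ∧ (r = -1 → q + 1 = 2 ^ (m + 2)) ∧ (r ≠ -1 → q + 1 = 2 ^ (m + 1)) := by
  classical
  haveI : Fact (Nat.Prime 2) := ⟨Nat.prime_two⟩
  have h2q : (2 : ℕ) ≠ q := hq.symm
  set A := Subgroup.zpowers a with hA
  have hidx : A.index = 2 := by
    have h := A.card_mul_index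
    rw [hA, Nat.card_zpowers, ha, hG, show 2 ^ (m + 3) = 2 ^ (m + 2) * 2 by ring] at h
    exact Nat.eq_of_mul_eq_mul_left (by positivity) h
  have hsi : s⁻¹ = s := inv_eq_of_mul_eq_one_right hss
  have hz1 : ∀ i : ℤ, a ^ i = 1 ↔ (2 : ℤ) ^ (m + 2) ∣ i := fun i => by
    rw [← orderOf_dvd_iff_zpow_eq_one, ha, Nat.cast_pow, Nat.cast_two]
  set z := a ^ ((2 : ℤ) ^ (m + 1)) with hz
  have hzne : z ≠ 1 := fun h => by
    rw [hz, hz1] at h
    have := Int.le_of_dvd (by positivity) h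
    have : (2 : ℤ) ^ (m + 2) = 2 * 2 ^ (m + 1) := by ring
    have : (0 : ℤ) < 2 ^ (m + 1) := by positivity
    omega
  have hz2 : z * z = 1 := by rw [hz, ← zpow_add, hz1]; exact ⟨1, by ring⟩
  have hconj : ∀ i : ℤ, s * a ^ i * s⁻¹ = a ^ (r * i) := fun i => by rw [← conj_zpow, hsa, ← zpow_mul]
  have hzs : Commute s z := by
    refine mul_inv_eq_iff_eq_mul.1 ?_
    rw [hz, hconj, ← mul_inv_eq_one, ← zpow_neg, ← zpow_add, hz1]
    rcases hr with rfl | ⟨-, rfl⟩
    · exact ⟨-1, by ring⟩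
    · exact ⟨2 ^ m - 1, by ring⟩
  have hcov : ∀ g : G, g ∈ A ∨ ∃ i : ℤ, g = a ^ i * s := by
    intro g
    by_cases hg : g ∈ A
    · exact Or.inl hg
    · obtain ⟨i, hi⟩ := (Subgroup.mul_mem_iff_of_index_two hidx).2 (iff_of_false hg hs)
      exact Or.inr ⟨i, by rw [show a ^ i = g * s from hi, mul_assoc, hss, mul_one]⟩
  have hzc : ∀ g : G, Commute g z := by
    intro g
    rcases hcov g with ⟨i, rfl⟩ | ⟨i, rfl⟩
    · exact (Commute.refl a).zpow_zpow i _
    · exact ((Commute.refl a).zpow_zpow i _).mul_left hzs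
  have hzC : Central ρ 2 z := hh.central h2q (orderOf_eq_prime (by rw [sq, hz2]) hzne) hzc
  -- the cyclic subgroup is semiregular
  have hreg : ∀ i : ℤ, ∀ v : V, v ≠ 0 → ρ (a ^ i) v = v → a ^ i = 1 := by
    intro i v hv hiv
    by_contra hne
    set K := stab ρ v ⊓ A with hK
    have hK1 : K ≠ ⊥ := fun h => hne (Subgroup.mem_bot.1 (h.le ⟨hiv, Subgroup.zpow_mem _ (Subgroup.mem_zpowers a) i⟩))
    have hKp : IsPGroup 2 K := (IsPGroup.of_card (n := m + 3) hG).to_subgroup K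
    obtain ⟨n, hn⟩ := IsPGroup.iff_card.1 hKp
    have hn0 : n ≠ 0 := fun h => hK1 (Subgroup.eq_bot_of_card_eq K (by rw [hn, h, pow_zero]))
    obtain ⟨w, hw⟩ := exists_prime_orderOf_dvd_card' (G := K) 2 (hn ▸ dvd_pow_self 2 hn0)
    obtain ⟨j, hj⟩ := w.2.2
    have hj2 : a ^ (j + j) = 1 := by
      rw [zpow_add]
      show a ^ j * a ^ j = 1
      rw [show a ^ j = (w : G) from hj, ← sq, ← hw, ← Subgroup.orderOf_coe, pow_orderOf_eq_one]
    obtain ⟨k, hk⟩ := (hz1 _).1 hj2
    have hjk : j = 2 ^ (m + 1) * k := by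
      refine mul_left_cancel₀ (show (2 : ℤ) ≠ 0 by norm_num) ?_
      linear_combination hk
    have hwz : (w : G) = z := by
      rw [← show a ^ j = (w : G) from hj, hjk, zpow_mul, ← hz]
      rcases Int.even_or_odd' k with ⟨l, rfl | rfl⟩
      · exfalso
        have : (w : G) = 1 := by
          rw [← show a ^ j = (w : G) from hj, hjk, hz1]
          exact ⟨l, by ring⟩
        rw [← Subgroup.orderOf_coe, this, orderOf_one] at hw
        omega
      · rw [zpow_add, zpow_mul, zpow_two, hz2, one_zpow, one_mul, zpow_one]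
    exact hv (hzC.free v (hwz ▸ w.2.1))
  let Inv := {g : G // g ∉ A ∧ g * g = 1}
  have huni : ∀ v : V, v ≠ 0 → ∀ g g' : G, g ∉ A → g' ∉ A → ρ g v = v → ρ g' v = v → g = g' := by
    intro v hv g g' hg hg' hgv hgv'
    have h1 : g⁻¹ * g' ∈ A := (Subgroup.mul_mem_iff_of_index_two hidx).2
      (iff_of_false (fun h => hg (by simpa using inv_mem h)) hg')
    obtain ⟨i, hi⟩ := h1
    have h2 : g⁻¹ * g' ∈ stab ρ v := mul_mem (inv_mem ((mem_stab ρ).2 hgv)) ((mem_stab ρ).2 hgv')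
    rw [← show a ^ i = g⁻¹ * g' from hi] at h2
    have h3 := hreg i v hv h2
    rw [show a ^ i = g⁻¹ * g' from hi] at h3
    exact inv_mul_eq_one.1 h3
  have hex : ∀ v : V, v ≠ 0 → ∃ g : Inv, ρ g.1 v = v := by
    intro v hv
    obtain ⟨g, hg, hg1⟩ := (Subgroup.bot_or_exists_ne_one _).resolve_left (hh.ne_bot v hv)
    have hgA : g ∉ A := by
      rintro ⟨i, rfl⟩
      exact hg1 (hreg i v hv hg)
    have hgg : g * g = 1 := by
      obtain ⟨i, hi⟩ := Subgroup.mul_self_mem_of_index_two hidx g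
      have h2 : g * g ∈ stab ρ v := mul_mem hg hg
      rw [← show a ^ i = g * g from hi] at h2 ⊢
      exact hreg i v hv h2
    exact ⟨⟨g, hgA, hgg⟩, hg⟩
  let P : {v : V // v ≠ 0} ≃ Σ g : Inv, {v : V // v ≠ 0 ∧ ρ g.1 v = v} :=
    { toFun := fun v => ⟨(hex v.1 v.2).choose, v.1, v.2, (hex v.1 v.2).choose_spec⟩
      invFun := fun x => ⟨x.2.1, x.2.2.1⟩
      left_inv := fun v => rfl
      right_inv := fun ⟨g, v, hv, hgv⟩ => Sigma.subtype_ext
        (Subtype.ext (huni v hv _ _ (hex v hv).choose.2.1 g.2.1 (hex v hv).choose_spec hgv)) rfl }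
  have hfix : ∀ g : Inv, ∃ F l : ℕ, F = q ^ l ∧ Nat.card {v : V // v ≠ 0 ∧ ρ g.1 v = v} + 1 = F ∧
      Nat.card V = F * F := by
    rintro ⟨g, hgA, hgg⟩
    let W : ∀ h : G, AddSubgroup V := fun h => ((ρ h : V →ₗ[ZMod q] V).toAddMonoidHom).eqLocus (AddMonoidHom.id V)
    have hWm : ∀ h v, v ∈ W h ↔ ρ h v = v := fun h v => Iff.rfl
    have hgz : g * z * (g * z) = 1 := by
      rw [show g * z * (g * z) = g * (z * g) * z by group, ← (hzc g).eq, ← mul_assoc g g, hgg, one_mul, hz2]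
    obtain ⟨c, hc⟩ : ∃ c : G, c * g * c⁻¹ = g * z := by
      obtain ⟨i, rfl⟩ := (hcov g).resolve_left hgA
      refine ⟨a ^ ((2 : ℤ) ^ m), ?_⟩
      have h1 : s * a ^ (-((2 : ℤ) ^ m)) = a ^ (r * -((2 : ℤ) ^ m)) * s := by
        rw [← hconj, inv_mul_cancel_right]
      rw [← zpow_neg, ← mul_assoc, mul_assoc _ s, h1, ← mul_assoc, ← zpow_add, ← zpow_add, mul_assoc (a ^ i) s z,
        hzs.eq, ← mul_assoc (a ^ i), hz, ← zpow_add, mul_left_inj, ← mul_inv_eq_one, ← zpow_neg, ← zpow_add, hz1]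
      rcases hr with rfl | ⟨hm, rfl⟩
      · exact ⟨0, by ring⟩
      · obtain ⟨k, rfl⟩ := Nat.exists_eq_add_of_le hm
        exact ⟨-(2 ^ k), by ring⟩
    have hinv2 : ∀ h : G, h * h = 1 → ∀ v, ρ h (ρ h v) = v := fun h hh v => by rw [← act_mul, hh, act_one]
    have hzneg : ∀ v, ρ z v = -v := fun v => eq_neg_of_add_eq_zero_left (hzC.free _ (by
      rw [map_add, ← act_mul, hz2, act_one, add_comm]))
    have hgzv : ∀ v, ρ (g * z) v = -ρ g v := fun v => by rw [act_mul, hzneg, map_neg]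
    let Φ : W g × W (g * z) → V := fun x => x.1.1 + x.2.1
    have hΦ : Function.Bijective Φ := by
      constructor
      · rintro ⟨⟨x, hx⟩, ⟨y, hy⟩⟩ ⟨⟨x', hx'⟩, ⟨y', hy'⟩⟩ h
        change x + y = x' + y' at h
        rw [hWm] at hx hx' hy hy'
        rw [hgzv, neg_eq_iff_eq_neg] at hy hy'
        have h' := congrArg (ρ g) h
        rw [map_add, map_add, hx, hx', hy, hy'] at h'
        have hyy : y = y' := sub_eq_zero.1 (eq_zero_of_nsmul h2q (by
          rw [two_nsmul, show y - y' + (y - y') = (x + y) - (x' + y') - ((x + -y) - (x' + -y')) by abel, h, h', sub_self,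
            sub_self, sub_self]))
        subst hyy
        obtain rfl := add_right_cancel h
        rfl
      · intro v
        set c : ZMod q := (2 : ZMod q)⁻¹
        have hc2 : (2 : ZMod q) ≠ 0 := fun h => hq ((Nat.prime_dvd_prime_iff_eq (Fact.out : q.Prime)
          Nat.prime_two).1 ((ZMod.natCast_eq_zero_iff 2 q).1 (by exact_mod_cast h)))
        refine ⟨(⟨c • (v + ρ g v), (hWm _ _).2 ?_⟩, ⟨c • (v - ρ g v), (hWm _ _).2 ?_⟩), ?_⟩
        · rw [map_smul, map_add, hinv2 g hgg, add_comm]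
        · rw [hgzv, map_smul, map_sub, hinv2 g hgg, ← smul_neg, neg_sub]
        · show c • (v + ρ g v) + c • (v - ρ g v) = v
          rw [← smul_add, add_add_sub_cancel, ← two_smul (ZMod q) v, smul_smul, inv_mul_cancel₀ hc2, one_smul]
    have hcardgz : Nat.card (W (g * z)) = Nat.card (W g) := by
      refine Nat.card_congr
        { toFun := fun x => ⟨ρ c⁻¹ x.1, (hWm _ _).2 ?_⟩
          invFun := fun x => ⟨ρ c x.1, (hWm _ _).2 ?_⟩
          left_inv := fun x => Subtype.ext (by show ρ c (ρ c⁻¹ x.1) = x.1; rw [← act_mul, mul_inv_cancel, act_one])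
          right_inv := fun x => Subtype.ext (by show ρ c⁻¹ (ρ c x.1) = x.1; rw [← act_mul, inv_mul_cancel, act_one]) }
      · have h : ρ (c * g * c⁻¹) x.1 = x.1 := by rw [hc]; exact (hWm _ _).1 x.2
        conv_rhs => rw [← h]
        simp only [← act_mul]
        congr 2; group
      · have h := (hWm _ _).1 x.2
        conv_rhs => rw [← h]
        rw [← hc, ← act_mul, ← act_mul]
        congr 2; group
    refine ⟨Nat.card (W g), ?_⟩
    obtain ⟨d, hd⟩ : ∃ d, Nat.card V = q ^ d :=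
      ⟨Module.finrank (ZMod q) V, by rw [Module.natCard_eq_pow_finrank (K := ZMod q), Nat.card_zmod]⟩
    obtain ⟨l, -, hl⟩ := (Nat.dvd_prime_pow (Fact.out : q.Prime)).1 (hd ▸ AddSubgroup.card_addSubgroup_dvd_card (W g))
    refine ⟨l, hl, ?_, by rw [← Nat.card_congr (Equiv.ofBijective Φ hΦ), Nat.card_prod, hcardgz]⟩
    have h1 : Nat.card {v : V // v ≠ 0 ∧ ρ g v = v} = ((W g : Set V) \ {0}).ncard := by
      rw [← Nat.card_coe_set_eq]
      exact Nat.card_congr (Equiv.subtypeEquivRight fun v => and_comm)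
    rw [h1, Set.ncard_sdiff_singleton_of_mem (zero_mem _), ← Nat.card_coe_set_eq]
    exact Nat.sub_add_cancel Nat.card_pos
  obtain ⟨v0, hv0⟩ := exists_ne (0 : V)
  obtain ⟨F, l, hF, -, hVF⟩ := hfix (hex v0 hv0).choose
  have hfixF : ∀ g : Inv, Nat.card {v : V // v ≠ 0 ∧ ρ g.1 v = v} = F - 1 := fun g => by
    obtain ⟨F', l', -, h1, h2⟩ := hfix g
    have : F' = F := Nat.mul_self_inj.1 (h2.symm.trans hVF)
    omega
  have hl0 : l ≠ 0 := by
    rintro rfl
    rw [hF, pow_zero, one_mul] at hVF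
    exact absurd hVF (Finite.one_lt_card (α := V)).ne'
  have hF1 : 1 < F := hF ▸ Nat.one_lt_pow hl0 (Fact.out : q.Prime).one_lt
  have hcount : Nat.card Inv = F + 1 := by
    have hne : Nat.card {v : V // v ≠ 0} = F * F - 1 := by
      rw [← hVF]
      have h1 : Nat.card {v : V // v ≠ 0} = ({0}ᶜ : Set V).ncard := by
        rw [← Nat.card_coe_set_eq]; rfl
      rw [h1, Set.ncard_compl, Set.ncard_singleton]
    rw [Nat.card_congr P] at hne
    haveI : Fintype Inv := Fintype.ofFinite _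
    rw [Nat.card_sigma, Finset.sum_congr rfl fun g _ => hfixF g, sum_const, card_univ, ← Nat.card_eq_fintype_card,
      smul_eq_mul] at hne
    refine Nat.eq_of_mul_eq_mul_right (show 0 < F - 1 by omega) ?_
    rw [hne]
    have := Nat.mul_self_sub_mul_self_eq F 1
    simpa using this
  -- the involutions outside
  have hinvA : ∀ i : ℤ, a ^ i * s ∉ A ∧ (a ^ i * s * (a ^ i * s) = 1 ↔ (2 : ℤ) ^ (m + 2) ∣ i * (1 + r)) := by
    intro i
    refine ⟨fun h => hs (by simpa using mul_mem (inv_mem (Subgroup.zpow_mem _ (Subgroup.mem_zpowers a) i)) h), ?_⟩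
    have h1 : s * a ^ i = a ^ (r * i) * s := by rw [← hconj, inv_mul_cancel_right]
    rw [show a ^ i * s * (a ^ i * s) = a ^ i * (s * a ^ i) * s by group, h1, mul_assoc, mul_assoc, hss, mul_one,
      ← zpow_add, hz1, show i + r * i = i * (1 + r) by ring]
  have hc : Nat.card Inv = if r = -1 then 2 ^ (m + 2) else 2 ^ (m + 1) := by
    split_ifs with hr1
    · have hb : Function.Bijective fun w : A => (⟨w.1 * s, by
          obtain ⟨i, hi⟩ := w.2
          rw [← show a ^ i = w.1 from hi]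
          exact ⟨(hinvA i).1, (hinvA i).2.2 (by rw [hr1]; exact ⟨0, by ring⟩)⟩⟩ : Inv) := by
        refine ⟨fun w w' h => Subtype.ext (mul_right_cancel (congrArg Subtype.val h)), fun g => ?_⟩
        obtain ⟨i, hi⟩ := (hcov g.1).resolve_left g.2.1
        exact ⟨⟨a ^ i, Subgroup.zpow_mem _ (Subgroup.mem_zpowers a) i⟩, Subtype.ext hi.symm⟩
      rw [← Nat.card_congr (Equiv.ofBijective _ hb), hA, Nat.card_zpowers, ha]
    · obtain ⟨hm, hr2⟩ := hr.resolve_left hr1
      have hb : Function.Bijective fun w : Subgroup.zpowers (a ^ 2) => (⟨w.1 * s, by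
          obtain ⟨i, hi⟩ := w.2
          rw [← show (a ^ 2) ^ i = w.1 from hi, ← zpow_natCast, ← zpow_mul]
          exact ⟨(hinvA _).1, (hinvA _).2.2 (by rw [hr2]; exact ⟨i, by push_cast; ring⟩)⟩⟩ : Inv) := by
        refine ⟨fun w w' h => Subtype.ext (mul_right_cancel (congrArg Subtype.val h)), fun g => ?_⟩
        obtain ⟨i, hi⟩ := (hcov g.1).resolve_left g.2.1
        have h := g.2.2
        rw [hi, (hinvA i).2, hr2] at h
        obtain ⟨c, hc⟩ := h
        refine ⟨⟨a ^ i, c, ?_⟩, Subtype.ext hi.symm⟩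
        show (a ^ 2) ^ c = a ^ i
        rw [← zpow_natCast, ← zpow_mul]
        congr 1
        refine mul_left_cancel₀ (show (2 : ℤ) ^ (m + 1) ≠ 0 by positivity) ?_
        push_cast
        linear_combination (-hc)
      rw [← Nat.card_congr (Equiv.ofBijective _ hb), Nat.card_zpowers,
        orderOf_pow_of_dvd two_ne_zero (ha ▸ dvd_pow_self 2 (by omega)), ha,
        show 2 ^ (m + 2) = 2 ^ (m + 1) * 2 by ring, Nat.mul_div_cancel _ two_pos]
  -- the dimension
  obtain ⟨e, he⟩ : ∃ e, F + 1 = 2 ^ e := by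
    rw [← hcount, hc]
    split_ifs
    · exact ⟨_, rfl⟩
    · exact ⟨_, rfl⟩
  have hl1 : l = 1 := by
    have hqo : Odd q := (Fact.out : q.Prime).odd_of_ne_two hq
    rcases Nat.even_or_odd l with ⟨k, rfl⟩ | hodd
    · exfalso
      obtain ⟨u, hu⟩ := hqo.pow (n := k)
      have h1 : F = 4 * (u * u + u) + 1 := by rw [hF, pow_add, hu]; ring
      rcases e with _ | _ | e
      · simp at he; omega
      · simp at he; omega
      · rw [h1, show 2 ^ (e + 1 + 1) = 4 * 2 ^ e by ring] at he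
        omega
    · have h1 := natAbs_pow_sub_one (a := e) (x := -(q : ℤ)) ((Int.odd_coe_nat q).2 hqo).neg hodd (by
        rw [hodd.neg_pow, ← he, hF, ← Nat.cast_pow]; omega)
      have h2 : q ^ l = q ^ 1 := by
        rw [pow_one]
        omega
      exact Nat.pow_right_injective (Fact.out : q.Prime).two_le h2
  rw [hl1, pow_one] at hF
  subst hF
  refine ⟨by rw [hVF, sq], fun h => ?_, fun h => ?_⟩
  · rw [← hcount, hc, if_pos h]
  · rw [← hcount, hc, if_neg h]

end CfsgLib.HalfTransP
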