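import Cfsg.Agent.Lib.Techniques.HalfTrans.Free

/-!
# Half-transitive `p`-groups with a normal plane: the monomial groups of dimension two
-/

set_option autoImplicit false

namespace CfsgLib.HalfTransP

open Finset

/-- For odd `x` and odd `k` the quotient `(x ^ k - 1) / (x - 1)` is odd. -/
theorem natAbs_pow_sub_one {x : ℤ} (hx : Odd x) {k a : ℕ} (hk : Odd k) (h : (x ^ k - 1).natAbs = 2 ^ a) :
    (x - 1).natAbs = 2 ^ a := by
  have hg := geom_sum_mul x k
  set S := ∑ i ∈ range k, x ^ i with hS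
  have hodd : Odd S.natAbs := by
    rw [Int.natAbs_odd, Int.odd_iff, hS, Finset.sum_int_mod]
    have h1 : ∀ i ∈ range k, x ^ i % 2 = 1 := fun i _ => Int.odd_iff.1 hx.pow
    rw [Finset.sum_congr rfl h1, sum_const, card_range, nsmul_one]
    have := Nat.odd_iff.1 hk
    omega
  have hd : S.natAbs ∣ 2 ^ a := ⟨(x - 1).natAbs, by rw [← h, ← hg, Int.natAbs_mul]⟩
  obtain ⟨i, -, hi⟩ := (Nat.dvd_prime_pow Nat.prime_two).1 hd
  rcases Nat.eq_zero_or_pos i with h0 | h0
  · rw [← h, ← hg, Int.natAbs_mul, hi, h0, pow_zero, one_mul]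
  · rw [hi] at hodd
    exact absurd hodd (Nat.not_odd_iff_even.2 ⟨2 ^ (i - 1), by rw [← two_mul, ← pow_succ']; congr 1; omega⟩)

theorem prime_pow_eq_two_pow_add_one {q k a : ℕ} (hq : q.Prime) (hq2 : q ≠ 2) (hk : 0 < k)
    (h : q ^ k = 2 ^ a + 1) : k = 1 ∨ (q = 3 ∧ k = 2) := by
  rcases Nat.even_or_odd k with ⟨l, rfl⟩ | hodd
  · right
    obtain ⟨c, hc⟩ : ∃ c, q ^ l = c + 1 := ⟨q ^ l - 1, by have := Nat.one_le_pow l q hq.pos; omega⟩
    rw [pow_add, hc] at h
    have h2 : c * (c + 2) = 2 ^ a := by linear_combination h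
    obtain ⟨i, -, hi⟩ := (Nat.dvd_prime_pow Nat.prime_two).1 (Dvd.intro (c + 2) h2)
    obtain ⟨j, -, hj⟩ := (Nat.dvd_prime_pow Nat.prime_two).1 (Dvd.intro_left c h2)
    have hc2 : c = 2 := by
      rcases i with _ | _ | i
      · subst hi
        rcases j with _ | _ | j <;> simp only [pow_succ, pow_zero] at hj <;> omega
      · simpa using hi
      · rcases j with _ | _ | j
        · omega
        · have : 0 < c := hi ▸ pow_pos two_pos _
          omega
        · have h4 : 4 ∣ c := ⟨2 ^ i, by rw [hi]; ring⟩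
          have h4' : 4 ∣ c + 2 := ⟨2 ^ j, by rw [hj]; ring⟩
          omega
    subst hc2
    have hl : l ≠ 0 := by omega
    obtain ⟨h3, hl1⟩ := (Nat.Prime.pow_eq_iff Nat.prime_three).1 hc
    exact ⟨h3, by omega⟩
  · left
    have hqo : Odd (q : ℤ) := (Int.odd_coe_nat q).2 (hq.odd_of_ne_two hq2)
    have h1 := natAbs_pow_sub_one (a := a) hqo hodd (by rw [← Nat.cast_pow, h]; simp)
    have h2 : q ^ k = q ^ 1 := by
      rw [h, ← h1, pow_one]
      have := hq.two_le
      omega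
    exact Nat.pow_right_injective hq.two_le h2

variable {q : ℕ} [Fact q.Prime] {V : Type*} [AddCommGroup V] [Module (ZMod q) V] [Finite V]
  {G : Type*} [Group G] [Finite G] {ρ : G →* (V ≃ₗ[ZMod q] V)} {p : ℕ} [hp : Fact p.Prime] {z e : G}

theorem Plane.exists_moving [Nontrivial V] (he : Plane p z e) (hz : Central ρ p z) (hh : Half ρ) (hpq : p ≠ q) :
    ∃ t : G, e⁻¹ * (t * e * t⁻¹) ≠ 1 := by
  by_contra hc
  push Not at hc
  have hec : ∀ g : G, Commute g e := fun g => mul_inv_eq_iff_eq_mul.1 (inv_mul_eq_one.1 (hc g)).symm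
  refine he.notMem (mem_zpowers_of_free hpq hz he.pow_e fun i v h1 hv => ?_)
  refine (hh.central hpq (orderOf_eq_prime (he.mul_pow hz (pow_mem (Subgroup.mem_zpowers z) i)) h1)
    fun g => (hec g).mul_right ((hz.comm g).pow_right i)).free v hv

/-- For odd `p` there is no such plane. -/
theorem Plane.false_of_odd [Nontrivial V] (he : Plane p z e) (hz : Central ρ p z) (hh : Half ρ) (hpq : p ≠ q)
    (hp2 : p ≠ 2) : False := by
  have key : ∀ ζ η : G, ζ ∈ Subgroup.zpowers z → η ∈ Subgroup.zpowers z → ζ ≠ η → ∀ x y : V, x ≠ 0 → y ≠ 0 →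
      ρ (e * ζ) x = x → ρ (e * η) y = y → stab ρ x = stab ρ y := by
    intro ζ η hζ hη hne x y hx hy hxζ hyη
    have hTx : T ρ p (e * ζ) x = p • x := T_of_fixed ρ hxζ
    have hTy : T ρ p (e * ζ) y = 0 := he.T_of_ne hz hζ hη hne hyη
    refine hh.stab_eq hx hy (fun h0 => hx (eq_zero_of_nsmul hpq ?_)) fun g hg => ?_
    · rw [← hTx, ← add_zero (T ρ p (e * ζ) x), ← hTy, ← T_add, h0, T_zero, hTy]
    set γ := e⁻¹ * (g * e * g⁻¹) with hγ
    have hγz : γ ∈ Subgroup.zpowers z := he.conj g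
    have hgx : ρ (e * (γ * ζ)) (ρ g x) = ρ g x := Plane.move hz g hζ hxζ
    have hgy : ρ (e * (γ * η)) (ρ g y) = ρ g y := Plane.move hz g hη hyη
    have hsum : ρ g x + ρ g y = x + y := by rw [← map_add]; exact hg
    have comp : ∀ (u v : V) (α β : G), α ∈ Subgroup.zpowers z → β ∈ Subgroup.zpowers z → α ≠ β →
        u ≠ 0 → ρ (e * α) u = u → ρ (e * β) v = v → u + v = x + y → α = ζ ∨ α = η := by
      intro u v α β hα hβ hαβ hu huα hvβ huv
      by_contra hc
      push Not at hc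
      refine hu (eq_zero_of_nsmul hpq ?_)
      have h1 := congrArg (T ρ p (e * α)) huv
      rw [T_add, T_add, T_of_fixed ρ huα, he.T_of_ne hz hα hβ hαβ hvβ, he.T_of_ne hz hα hζ hc.1 hxζ,
        he.T_of_ne hz hα hη hc.2 hyη, add_zero, add_zero] at h1
      exact h1
    have hne' : γ * ζ ≠ γ * η := fun h => hne (mul_left_cancel h)
    have hgx0 : ρ g x ≠ 0 := fun h => hx ((ρ g).injective (by rw [h, map_zero]))
    have hgy0 : ρ g y ≠ 0 := fun h => hy ((ρ g).injective (by rw [h, map_zero]))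
    have c1 := comp _ _ _ _ (mul_mem hγz hζ) (mul_mem hγz hη) hne' hgx0 hgx hgy hsum
    have c2 := comp _ _ _ _ (mul_mem hγz hη) (mul_mem hγz hζ) hne'.symm hgy0 hgy hgx ((add_comm _ _).trans hsum)
    have hγ1 : γ = 1 := by
      rcases c1 with c1 | c1
      · exact mul_eq_right.1 c1
      rcases c2 with c2 | c2
      · obtain ⟨i, hi⟩ := hγz
        have hγp : γ ^ p = 1 := by
          rw [← hi, ← zpow_natCast]
          show (z ^ i) ^ (p : ℤ) = 1
          rw [← zpow_mul, mul_comm, zpow_mul, zpow_natCast, ← hz.order, pow_orderOf_eq_one, one_zpow]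
        have hγ2 : γ ^ 2 = 1 := by
          rw [← c1, ← mul_assoc] at c2
          rw [sq]; exact mul_eq_right.1 c2
        have hd := Nat.dvd_gcd (orderOf_dvd_of_pow_eq_one hγp) (orderOf_dvd_of_pow_eq_one hγ2)
        rw [(Nat.coprime_primes hp.out Nat.prime_two).2 hp2] at hd
        exact orderOf_eq_one_iff.1 (Nat.dvd_one.1 hd)
      · exact mul_eq_right.1 c2
    rw [hγ1, one_mul] at hgx hgy
    have hgx' : ρ g x = x := by
      refine eq_of_nsmul_eq hpq ?_
      have h1 := congrArg (T ρ p (e * ζ)) hsum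
      rwa [T_add, T_add, T_of_fixed ρ hgx, hTx, hTy, he.T_of_ne hz hζ hη hne hgy, add_zero, add_zero] at h1
    refine Subgroup.mem_inf.2 ⟨hgx', ?_⟩
    rw [hgx'] at hsum
    exact add_left_cancel hsum
  obtain ⟨t, ht⟩ := he.exists_moving hz hh hpq
  obtain ⟨v, hv⟩ := exists_ne (0 : V)
  obtain ⟨ζ, hζ, x, hx, hxζ⟩ := he.exists_comp hz hpq hv
  have hall : ∀ η : G, η ∈ Subgroup.zpowers z → ∀ y : V, y ≠ 0 → ρ (e * η) y = y → stab ρ x = stab ρ y := by
    intro η hη y hy hyη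
    rcases eq_or_ne η ζ with rfl | hne
    · set γ := e⁻¹ * (t * e * t⁻¹)
      have hne : η ≠ γ * η := fun h => ht (mul_eq_right.1 h.symm)
      have h0 : ρ t x ≠ 0 := fun h => hx ((ρ t).injective (by rw [h, map_zero]))
      have hm := Plane.move hz t hη hxζ
      exact (key η _ hη (mul_mem (he.conj t) hη) hne x _ hx h0 hxζ hm).trans
        (key η _ hη (mul_mem (he.conj t) hη) hne y _ hy h0 hyη hm).symm
    · exact (key η ζ hη hζ hne y x hy hx hyη hxζ).symm
  refine hh.false_of_fixes_all hx fun w g hg => eq_of_nsmul_eq hpq ?_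
  rw [← map_nsmul (ρ g) p w, ← hz.sum_T he.pow_e w, map_sum]
  refine sum_congr rfl fun i _ => ?_
  have hi := T_fixed ρ (he.mul_pow hz (pow_mem (Subgroup.mem_zpowers z) i)) w
  by_cases h0 : T ρ p (e * z ^ i) w = 0
  · rw [h0, map_zero]
  · exact (hall _ (pow_mem (Subgroup.mem_zpowers z) i) _ h0 hi).le hg

omit [Fact q.Prime] [Finite V] [Finite G] in
theorem neg_fixed_zero {v : V} (h : v + v = 0) (h2 : ∀ w : V, 2 • w = 0 → w = 0) : v = 0 :=
  h2 v (by rw [two_nsmul, h])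

/-- The monomial groups. -/
theorem Plane.two_case [Nontrivial V] (hG : IsPGroup 2 G) (he : Plane 2 z e) (hz : Central ρ 2 z) (hh : Half ρ)
    (hq : q ≠ 2) :
    (Nat.card V = 81 ∧ q = 3) ∨ (Nat.card V = q ^ 2 ∧ (∃ m : ℕ, q = 2 ^ m + 1) ∧
      ∃ F : V ≃ₗ[ZMod q] (Fin 2 → ZMod q), ∀ f : (Fin 2 → ZMod q) ≃ₗ[ZMod q] (Fin 2 → ZMod q),
        (∃ g : G, f = F.symm.trans ((ρ g).trans F)) ↔
        ∃ a s : ZMod q, a ≠ 0 ∧ (s = 1 ∨ s = -1) ∧
          ((∀ v, f v = ![a * v 0, s * a⁻¹ * v 1]) ∨ (∀ v, f v = ![s * a⁻¹ * v 1, a * v 0]))) := by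
  haveI : Fact (Nat.Prime 2) := ⟨Nat.prime_two⟩
  have h2q : (2 : ℕ) ≠ q := hq.symm
  have hzz : z * z = 1 := by rw [← sq, ← hz.order, pow_orderOf_eq_one]
  have hee : e * e = 1 := by rw [← sq, he.pow_e]
  have hee' : e⁻¹ = e := inv_eq_of_mul_eq_one_right hee
  have heev : ∀ v, ρ e (ρ e v) = v := fun v => by rw [← act_mul, hee, act_one]
  have hzneg : ∀ v, ρ z v = -v := fun v => eq_neg_of_add_eq_zero_left (hz.free _ (by
    rw [map_add, ← act_mul, hzz, act_one, add_comm]))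
  have hadd : ∀ w : V, w + w = 0 → w = 0 := fun w h => neg_fixed_zero h fun u => eq_zero_of_nsmul h2q
  have hcase : ∀ g : G, g * e * g⁻¹ = e ∨ g * e * g⁻¹ = e * z := by
    intro g
    obtain ⟨i, hi⟩ := he.conj g
    have hi' : g * e * g⁻¹ = e * z ^ i := by rw [show z ^ i = e⁻¹ * (g * e * g⁻¹) from hi, mul_inv_cancel_left]
    rcases Int.even_or_odd' i with ⟨j, rfl | rfl⟩
    · left
      rw [hi', zpow_mul, show z ^ (2 : ℤ) = 1 by rw [zpow_two, hzz], one_zpow, mul_one]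
    · right
      rw [hi', zpow_add, zpow_mul, show z ^ (2 : ℤ) = 1 by rw [zpow_two, hzz], one_zpow, one_mul, zpow_one]
  set C := Subgroup.centralizer ({e} : Set G) with hC
  have hmemC : ∀ g, g ∈ C ↔ g * e = e * g := fun g => Subgroup.mem_centralizer_singleton_iff
  have hcomC : ∀ g ∈ C, ∀ v, ρ e (ρ g v) = ρ g (ρ e v) := fun g hg v => by
    rw [← act_mul, ← act_mul, (hmemC g).1 hg]
  have hswap : ∀ g, g ∉ C → ∀ v, ρ e (ρ g v) = -ρ g (ρ e v) := by
    intro g hg v
    have h1 : g * e * g⁻¹ = e * z := (hcase g).resolve_left fun h => hg ((hmemC g).2 (mul_inv_eq_iff_eq_mul.1 h))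
    have h2 : e * g = g * e * z := by
      rw [mul_inv_eq_iff_eq_mul] at h1
      rw [h1, mul_assoc (e * z) g z, (hz.comm g).eq, ← mul_assoc (e * z), mul_assoc e z z, hzz, mul_one]
    rw [← act_mul, ← act_mul, h2, act_mul, hzneg, map_neg]
  obtain ⟨t, ht⟩ : ∃ t, t ∉ C := by
    obtain ⟨t, ht⟩ := he.exists_moving hz hh h2q
    exact ⟨t, fun h => ht (by rw [(hmemC t).1 h, mul_inv_cancel_right, inv_mul_cancel])⟩
  have hti : t⁻¹ ∉ C := fun h => ht (by simpa using inv_mem h)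
  have hC2 : C.index = 2 := by
    refine Subgroup.index_eq_two_iff.2 ⟨t⁻¹, fun b => ?_⟩
    by_cases hb : b ∈ C
    · exact Or.inr ⟨hb, fun h => hti (by simpa using mul_mem (inv_mem hb) h)⟩
    · refine Or.inl ⟨?_, hb⟩
      have h1 := (hcase b).resolve_left fun h => hb ((hmemC b).2 (mul_inv_eq_iff_eq_mul.1 h))
      have h2 := (hcase t).resolve_left fun h => ht ((hmemC t).2 (mul_inv_eq_iff_eq_mul.1 h))
      have h3 : t⁻¹ * e * t = e * z := by
        have : t⁻¹ * (t * e * t⁻¹) * t = t⁻¹ * (e * z) * t := by rw [h2]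
        rw [show t⁻¹ * (t * e * t⁻¹) * t = e by group, show t⁻¹ * (e * z) * t = t⁻¹ * e * (z * t) by group,
          ← (hz.comm t).eq] at this
        conv_rhs => rw [this]
        rw [← mul_assoc (t⁻¹ * e), mul_assoc (t⁻¹ * e * t) z z, hzz, mul_one]
      rw [hmemC, ← mul_inv_eq_iff_eq_mul, mul_inv_rev, inv_inv,
        show b * t⁻¹ * e * (t * b⁻¹) = b * (t⁻¹ * e * t) * b⁻¹ by group, h3,
        show b * (e * z) * b⁻¹ = b * e * (z * b⁻¹) by group, ← (hz.comm b⁻¹).eq, ← mul_assoc, h1, mul_assoc, hzz,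
        mul_one]
  haveI hCn : C.Normal := Subgroup.normal_of_index_eq_two hC2
  let V0 : Submodule (ZMod q) V :=
    { carrier := {v | ρ e v = v}
      zero_mem' := map_zero _
      add_mem' := fun {a b} (ha : ρ e a = a) (hb : ρ e b = b) => by
        show ρ e (a + b) = a + b
        rw [map_add, ha, hb]
      smul_mem' := fun c x (hx : ρ e x = x) => by
        show ρ e (c • x) = c • x
        rw [map_smul, hx] }
  have hto1 : ∀ g, g ∉ C → ∀ x, ρ e x = x → ρ e (ρ g x) = -ρ g x := fun g hg x hx => by rw [hswap g hg, hx]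
  have hto0 : ∀ g, g ∉ C → ∀ y, ρ e y = -y → ρ e (ρ g y) = ρ g y := fun g hg y hy => by
    rw [hswap g hg, hy, map_neg, neg_neg]
  have huniq : ∀ x y x' y', ρ e x = x → ρ e y = -y → ρ e x' = x' → ρ e y' = -y' → x + y = x' + y' →
      x = x' ∧ y = y' := by
    intro x y x' y' hx hy hx' hy' h
    have h' := congrArg (ρ e) h
    rw [map_add, map_add, hx, hy, hx', hy'] at h'
    have hyy : y = y' := sub_eq_zero.1 (hadd _ (by
      rw [show y - y' + (y - y') = (x + y) - (x' + y') - ((x + -y) - (x' + -y')) by abel, h, h', sub_self,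
        sub_self, sub_self]))
    exact ⟨by rw [hyy] at h; exact add_right_cancel h, hyy⟩
  have hne : ∀ x y, x ≠ 0 → ρ e x = x → ρ e y = -y → x + y ≠ 0 := fun x y hx hex hey h =>
    hx (huniq x y 0 0 hex hey (map_zero _) (by rw [map_zero, neg_zero]) (by rw [h, add_zero])).1
  -- a swapping element for each pair
  have hpair : ∀ x y, x ≠ 0 → y ≠ 0 → ρ e x = x → ρ e y = -y → ∃ g, g ∉ C ∧ ρ g x = y ∧ ρ g y = x := by
    intro x y hx hy hex hey
    obtain ⟨g, hg, hgC⟩ : ∃ g ∈ stab ρ (x + y), g ∉ C := by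
      by_contra hc
      push Not at hc
      have hle : stab ρ (x + y) ≤ stab ρ x ⊓ stab ρ y := fun g hg => by
        have hgs : ρ g x + ρ g y = x + y := by rw [← map_add]; exact hg
        exact huniq _ _ _ _ (by rw [hcomC g (hc g hg), hex]) (by rw [hcomC g (hc g hg), hey, map_neg]) hex hey hgs
      have hst := hh.stab_eq hx hy (hne x y hx hex hey) hle
      have h1 : e ∈ stab ρ y := hst ▸ hex
      exact hy (hadd _ (eq_neg_iff_add_eq_zero.1 (h1.symm.trans hey)))
    have hgs : ρ g y + ρ g x = x + y := by rw [add_comm, ← map_add]; exact hg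
    obtain ⟨h1, h2⟩ := huniq _ _ _ _ (hto0 g hgC y hey) (hto1 g hgC x hex) hex hey hgs
    exact ⟨g, hgC, h2, h1⟩
  obtain ⟨x0, hx0, hex0⟩ : ∃ x, x ≠ 0 ∧ ρ e x = x := by
    by_contra hc
    push Not at hc
    refine he.notMem ?_
    have hall : ∀ v, ρ e v = ρ z v := fun v => by
      rw [hzneg]
      refine eq_neg_of_add_eq_zero_left (Classical.byContradiction fun hne => hc _ hne ?_)
      rw [map_add, heev, add_comm]
    rw [hh.inj (LinearEquiv.ext hall)]
    exact Subgroup.mem_zpowers z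
  obtain ⟨y0, hy0, hey0⟩ : ∃ y, y ≠ 0 ∧ ρ e y = -y :=
    ⟨ρ t x0, fun h => hx0 ((ρ t).injective (by rw [h, map_zero])), hto1 t ht x0 hex0⟩
  -- the kernel on `V0`
  have hK0 : ∀ a, (∀ x, ρ e x = x → ρ a x = x) → a = 1 ∨ a = e := by
    intro a ha
    have haC : a ∈ C := by
      by_contra h
      have h1 := hto1 a h x0 hex0
      rw [ha x0 hex0, hex0] at h1
      exact hx0 (hadd _ (eq_neg_iff_add_eq_zero.1 h1))
    have hsq : ∀ y, ρ e y = -y → ρ a y = y ∨ ρ a y = -y := by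
      intro y hey
      by_cases hy : y = 0
      · exact Or.inl (by rw [hy, map_zero])
      obtain ⟨g, hgC, hgx, hgy⟩ := hpair x0 y hx0 hy hex0 hey
      set H := stab ρ (x0 + y) with hH
      set I := stab ρ x0 ⊓ stab ρ y with hI
      have hgH : g ∈ H := by
        show ρ g (x0 + y) = x0 + y
        rw [map_add, hgx, hgy, add_comm]
      have hHC : H ⊓ C = I ⊓ C := by
        ext b
        simp only [Subgroup.mem_inf, hH, hI, mem_stab]
        constructor
        · rintro ⟨h, hb⟩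
          exact ⟨huniq _ _ _ _ (by rw [hcomC b hb, hex0]) (by rw [hcomC b hb, hey, map_neg]) hex0 hey
            (by rw [← map_add]; exact h), hb⟩
        · rintro ⟨⟨h1, h2⟩, hb⟩
          exact ⟨by rw [map_add, h1, h2], hb⟩
      have hIC : I ≤ C := fun b hb => by
        by_contra h
        have h1 := hto1 b h x0 hex0
        rw [(mem_stab ρ).1 hb.1, hex0] at h1
        exact hx0 (hadd _ (eq_neg_iff_add_eq_zero.1 h1))
      rw [inf_eq_left.2 hIC] at hHC
      have hrel : C.relIndex H = 2 := by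
        have hd : C.relIndex H ∣ 2 := hC2 ▸ Subgroup.relIndex_dvd_index_of_normal C H
        rcases (Nat.dvd_prime Nat.prime_two).1 hd with h | h
        · exact absurd (Subgroup.relIndex_eq_one.1 h hgH) hgC
        · exact h
      have hcardI : Nat.card I * 2 = Nat.card (stab ρ x0) := by
        rw [hh.const x0 _ hx0 (hne x0 y hx0 hex0 hey), ← hHC, ← hrel, ← Subgroup.inf_relIndex_left,
          ← Subgroup.relIndex_bot_left, ← Subgroup.relIndex_bot_left,
          Subgroup.relIndex_mul_relIndex _ _ _ bot_le inf_le_left]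
      have hIx : (I.subgroupOf (stab ρ x0)).index = 2 := by
        show I.relIndex (stab ρ x0) = 2
        have h1 := Subgroup.relIndex_mul_relIndex ⊥ I (stab ρ x0) bot_le inf_le_left
        rw [Subgroup.relIndex_bot_left, Subgroup.relIndex_bot_left, ← hcardI] at h1
        exact Nat.eq_of_mul_eq_mul_left Nat.card_pos h1
      by_cases hay : ρ a y = y
      · exact Or.inl hay
      · right
        have heI : (⟨e, hex0⟩ : stab ρ x0) ∉ I.subgroupOf (stab ρ x0) := fun h => by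
          have h1 : ρ e y = y := (Subgroup.mem_subgroupOf.1 h).2
          exact hy (hadd _ (eq_neg_iff_add_eq_zero.1 (h1.symm.trans hey)))
        have haI : (⟨a, ha x0 hex0⟩ : stab ρ x0) ∉ I.subgroupOf (stab ρ x0) := fun h =>
          hay (Subgroup.mem_subgroupOf.1 h).2
        have h1 : e * a ∈ I := Subgroup.mem_subgroupOf.1
          ((Subgroup.mul_mem_iff_of_index_two hIx).2 (iff_of_false heI haI))
        have h2 : ρ e (ρ a y) = y := by rw [← act_mul]; exact h1.2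
        have h3 : ρ e (ρ a y) = -ρ a y := by rw [hcomC a haC, hey, map_neg]
        rw [h2] at h3
        exact (neg_eq_iff_eq_neg.2 h3).symm.trans rfl
    have hdich : (∀ y, ρ e y = -y → ρ a y = y) ∨ ∀ y, ρ e y = -y → ρ a y = -y := by
      by_contra hc
      push Not at hc
      obtain ⟨⟨y, hey, hay⟩, w, hew, haw⟩ := hc
      have h1 := (hsq y hey).resolve_left hay
      have h2 := (hsq w hew).resolve_right haw
      rcases hsq (y + w) (by rw [map_add, hey, hew, neg_add]) with h | h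
      · rw [map_add, h1, h2, add_left_inj] at h
        exact hay (h1.trans h)
      · rw [map_add, h1, h2, neg_add, add_right_inj] at h
        exact haw (h2.trans h)
    have hext : ∀ b : G, (∀ x, ρ e x = x → ρ a x = ρ b x) → (∀ y, ρ e y = -y → ρ a y = ρ b y) → a = b := by
      intro b h1 h2
      refine hh.inj (LinearEquiv.ext fun v => eq_of_nsmul_eq h2q ?_)
      have e1 : ρ a (v + ρ e v) = ρ b (v + ρ e v) := h1 _ (by rw [map_add, heev, add_comm])
      have e2 : ρ a (v - ρ e v) = ρ b (v - ρ e v) := h2 _ (by rw [map_sub, heev, neg_sub])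
      rw [two_nsmul, two_nsmul, ← map_add, ← map_add, show v + v = (v + ρ e v) + (v - ρ e v) by abel,
        map_add (ρ a) (v + ρ e v), map_add (ρ b) (v + ρ e v), e1, e2]
    rcases hdich with h | h
    · exact Or.inl (hext 1 (fun x hx => by rw [ha x hx, act_one]) fun y hy => by rw [h y hy, act_one])
    · exact Or.inr (hext e (fun x hx => by rw [ha x hx, hx]) fun y hy => by rw [h y hy, hy])
  -- the centraliser of `e` is transitive on `V0`
  have horb : {u : V | ∃ g : C, (ρ.comp C.subtype) g x0 = u} = (V0 : Set V) \ {0} := by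
    ext u
    constructor
    · rintro ⟨g, rfl⟩
      refine ⟨?_, fun h => hx0 ((ρ (g : G)).injective (h.trans (map_zero _).symm))⟩
      show ρ e (ρ g x0) = ρ g x0
      rw [hcomC g g.2, hex0]
    · rintro ⟨hu, hu0⟩
      obtain ⟨g1, hg1, hg1x, -⟩ := hpair x0 y0 hx0 hy0 hex0 hey0
      obtain ⟨g2, hg2, -, hg2y⟩ := hpair u y0 (fun h => hu0 h) hy0 hu hey0
      refine ⟨⟨g2 * g1, (Subgroup.mul_mem_iff_of_index_two hC2).2 (iff_of_false hg2 hg1)⟩, ?_⟩
      show ρ (g2 * g1) x0 = u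
      rw [act_mul, hg1x, hg2y]
  obtain ⟨aa, haa⟩ : ∃ aa, Nat.card V0 = 2 ^ aa + 1 := by
    have h1 := card_orbit_mul (ρ.comp C.subtype) x0
    rw [horb, Nat.card_coe_set_eq, Set.ncard_diff_singleton_of_mem (V0.zero_mem)] at h1
    obtain ⟨n, hn⟩ := IsPGroup.iff_card.1 (hG.to_subgroup C)
    obtain ⟨i, -, hi⟩ := (Nat.dvd_prime_pow Nat.prime_two).1 (Dvd.intro _ (h1.trans hn))
    refine ⟨i, ?_⟩
    rw [← hi, ← Nat.card_coe_set_eq]
    have : 0 < Nat.card V0 := Nat.card_pos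
    show Nat.card V0 = Nat.card V0 - 1 + 1
    omega
  have hV0 : Nat.card V0 = q ^ Module.finrank (ZMod q) V0 := by
    rw [Module.natCard_eq_pow_finrank (K := ZMod q), Nat.card_zmod]
  let Φ : (↥V0 × ↥V0) → V := fun x => x.1.1 + ρ t x.2.1
  have hΦ : Function.Bijective Φ := by
    constructor
    · intro x y hxy
      obtain ⟨h1, h2⟩ := huniq _ _ _ _ x.1.2 (hto1 t ht _ x.2.2) y.1.2 (hto1 t ht _ y.2.2) hxy
      exact Prod.ext (Subtype.ext h1) (Subtype.ext ((ρ t).injective h2))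
    · intro v
      set c : ZMod q := (2 : ZMod q)⁻¹
      have hc2 : (2 : ZMod q) ≠ 0 := fun h => hq ((Nat.prime_dvd_prime_iff_eq (Fact.out : q.Prime) Nat.prime_two).1
        ((ZMod.natCast_eq_zero_iff 2 q).1 (by exact_mod_cast h)))
      refine ⟨(⟨c • (v + ρ e v), V0.smul_mem _ ?_⟩, ⟨ρ t⁻¹ (c • (v - ρ e v)), ?_⟩), ?_⟩
      · show ρ e (v + ρ e v) = v + ρ e v
        rw [map_add, heev, add_comm]
      · exact hto0 _ hti _ (by rw [map_smul, map_sub, heev, ← smul_neg, neg_sub])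
      · show c • (v + ρ e v) + ρ t (ρ t⁻¹ (c • (v - ρ e v))) = v
        rw [← act_mul, mul_inv_cancel, act_one, ← smul_add, add_add_sub_cancel, ← two_smul (ZMod q) v, smul_smul,
          inv_mul_cancel₀ hc2, one_smul]
  have hV : Nat.card V = q ^ (2 * Module.finrank (ZMod q) V0) := by
    rw [← Nat.card_congr (Equiv.ofBijective Φ hΦ), Nat.card_prod, hV0, two_mul, pow_add]
  rcases prime_pow_eq_two_pow_add_one Fact.out hq (Nat.pos_of_ne_zero fun h0 => by
      rw [h0, pow_zero, haa] at hV0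
      have := Nat.one_le_two_pow (n := aa)
      omega) (hV0.symm.trans haa) with hk | ⟨h3, hk⟩
  swap
  · exact Or.inl ⟨by rw [hV, hk, h3]; rfl, h3⟩
  right
  rw [hk, mul_one] at hV
  rw [hk, pow_one] at hV0
  refine ⟨hV, ⟨aa, hV0.symm.trans haa⟩, ?_⟩
  have hline : ∀ x, ρ e x = x → ∃ a : ZMod q, x = a • x0 := by
    intro x hx
    have hb : Function.Bijective fun a : ZMod q => (⟨a • x0, V0.smul_mem a hex0⟩ : V0) := by
      refine (Nat.bijective_iff_injective_and_card _).2 ⟨fun a b h => ?_, by rw [Nat.card_zmod, hV0]⟩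
      exact smul_left_injective (ZMod q) hx0 (congrArg Subtype.val h)
    obtain ⟨a, ha⟩ := hb.2 ⟨x, hx⟩
    exact ⟨a, (congrArg Subtype.val ha).symm⟩
  let L : (Fin 2 → ZMod q) →ₗ[ZMod q] V :=
    (LinearMap.proj 0).smulRight x0 + (LinearMap.proj 1).smulRight y0
  have hL : ∀ v, L v = v 0 • x0 + v 1 • y0 := fun v => rfl
  have hLb : Function.Bijective L := by
    refine (Nat.bijective_iff_injective_and_card L).2 ⟨fun v w h => ?_, by rw [hV, Nat.card_fun, Nat.card_zmod, Nat.card_fin]⟩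
    rw [hL, hL] at h
    obtain ⟨h1, h2⟩ := huniq _ _ _ _ (by rw [map_smul, hex0]) (by rw [map_smul, hey0, smul_neg])
      (by rw [map_smul, hex0]) (by rw [map_smul, hey0, smul_neg]) h
    funext i
    fin_cases i
    · exact smul_left_injective (ZMod q) hx0 h1
    · exact smul_left_injective (ZMod q) hy0 h2
  -- the elements
  have hw : ∀ b : ZMod q, b ≠ 0 → ∃ g, g ∉ C ∧ ρ g x0 = b • y0 ∧ ρ g y0 = b⁻¹ • x0 := by
    intro b hb
    obtain ⟨g, hgC, hgx, hgy⟩ := hpair x0 (b • y0) hx0 (smul_ne_zero hb hy0) hex0 (by rw [map_smul, hey0, smul_neg])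
    refine ⟨g, hgC, hgx, ?_⟩
    have h := congrArg (b⁻¹ • ·) hgy
    simpa [map_smul, smul_smul, inv_mul_cancel₀ hb] using h
  obtain ⟨w1, hw1C, hw1x, hw1y⟩ := hw 1 one_ne_zero
  simp only [one_smul, inv_one] at hw1x hw1y
  -- images of the basis
  let Img : G → Prop := fun g => ∃ a s : ZMod q, a ≠ 0 ∧ (s = 1 ∨ s = -1) ∧
    ((ρ g x0 = a • x0 ∧ ρ g y0 = (s * a⁻¹) • y0) ∨ (ρ g x0 = a • y0 ∧ ρ g y0 = (s * a⁻¹) • x0))
  have hforms : ∀ g, Img g := by
    intro g
    have hfix : ∀ b : G, ρ b x0 = x0 → b = 1 ∨ b = e := fun b hb => hK0 b fun x hx => by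
      obtain ⟨c, rfl⟩ := hline x hx
      rw [map_smul, hb]
    by_cases hg : g ∈ C
    · obtain ⟨a, ha⟩ := hline (ρ g x0) (by rw [hcomC g hg, hex0])
      have ha0 : a ≠ 0 := fun h => hx0 ((ρ g).injective (by rw [ha, h, zero_smul, map_zero]))
      obtain ⟨w, hwC, hwx, hwy⟩ := hw a ha0
      have hd : ρ (w1 * w) x0 = a • x0 ∧ ρ (w1 * w) y0 = a⁻¹ • y0 := by
        rw [act_mul, act_mul, hwx, hwy, map_smul, map_smul, hw1y, hw1x]
        exact ⟨rfl, rfl⟩
      rcases hfix ((w1 * w)⁻¹ * g) (by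
        rw [act_mul, ha, ← hd.1, ← act_mul, inv_mul_cancel, act_one]) with h | h
      · rw [← (inv_mul_eq_one.1 h)]
        exact ⟨a, 1, ha0, Or.inl rfl, Or.inl ⟨hd.1, by rw [one_mul]; exact hd.2⟩⟩
      · rw [inv_mul_eq_iff_eq_mul] at h
        refine ⟨a, -1, ha0, Or.inr rfl, Or.inl ⟨ha, ?_⟩⟩
        rw [h, act_mul, hey0, map_neg, hd.2, neg_one_mul, neg_smul]
    · obtain ⟨a, ha⟩ := hline (ρ w1 (ρ g x0)) (hto0 w1 hw1C _ (hto1 g hg x0 hex0))
      have ha0 : a ≠ 0 := fun h => hx0 ((ρ g).injective ((ρ w1).injective (by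
        rw [ha, h, zero_smul, map_zero, map_zero])))
      have hgx : ρ g x0 = a • y0 := (ρ w1).injective (by rw [ha, map_smul, hw1y])
      obtain ⟨w, hwC, hwx, hwy⟩ := hw a ha0
      rcases hfix (w⁻¹ * g) (by rw [act_mul, hgx, ← hwx, ← act_mul, inv_mul_cancel, act_one]) with h | h
      · rw [← (inv_mul_eq_one.1 h)]
        exact ⟨a, 1, ha0, Or.inl rfl, Or.inr ⟨hwx, by rw [one_mul]; exact hwy⟩⟩
      · rw [inv_mul_eq_iff_eq_mul] at h
        refine ⟨a, -1, ha0, Or.inr rfl, Or.inr ⟨hgx, ?_⟩⟩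
        rw [h, act_mul, hey0, map_neg, hwy, neg_one_mul, neg_smul]
  have hback : ∀ a s : ZMod q, a ≠ 0 → (s = 1 ∨ s = -1) →
      (∃ g, ρ g x0 = a • x0 ∧ ρ g y0 = (s * a⁻¹) • y0) ∧ ∃ g, ρ g x0 = a • y0 ∧ ρ g y0 = (s * a⁻¹) • x0 := by
    intro a s ha hs
    obtain ⟨w, -, hwx, hwy⟩ := hw a ha
    obtain ⟨c, hcx, hcy⟩ : ∃ c, ρ c x0 = x0 ∧ ρ c y0 = s • y0 := by
      rcases hs with rfl | rfl
      · exact ⟨1, act_one ρ _, by rw [act_one, one_smul]⟩
      · exact ⟨e, hex0, by rw [hey0, neg_one_smul]⟩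
    refine ⟨⟨w1 * w * c, ?_, ?_⟩, ⟨w * c, ?_, ?_⟩⟩
    · rw [act_mul, act_mul, hcx, hwx, map_smul, hw1y]
    · rw [act_mul, act_mul, hcy, map_smul, hwy, map_smul, map_smul, hw1x, smul_smul]
    · rw [act_mul, hcx, hwx]
    · rw [act_mul, hcy, map_smul, hwy, smul_smul]
  refine ⟨(LinearEquiv.ofBijective L hLb).symm, fun f => ?_⟩
  have hfL : ∀ g : G, (f = (LinearEquiv.ofBijective L hLb).symm.symm.trans
      ((ρ g).trans (LinearEquiv.ofBijective L hLb).symm)) ↔ ∀ v, ρ g (L v) = L (f v) := by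
    intro g
    constructor
    · intro h v
      rw [h]
      exact ((LinearEquiv.ofBijective L hLb).apply_symm_apply (ρ g (L v))).symm
    · intro h
      refine LinearEquiv.ext fun v => hLb.1 ?_
      rw [← h v]
      exact ((LinearEquiv.ofBijective L hLb).apply_symm_apply (ρ g (L v))).symm
  constructor
  · rintro ⟨g, hg⟩
    have h := (hfL g).1 hg
    obtain ⟨a, s, ha, hs, ⟨h1, h2⟩ | ⟨h1, h2⟩⟩ := hforms g
    · refine ⟨a, s, ha, hs, Or.inl fun v => hLb.1 ?_⟩
      rw [← h v, hL, hL, map_add, map_smul, map_smul, h1, h2, smul_smul, smul_smul]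
      simp [mul_comm]
    · refine ⟨a, s, ha, hs, Or.inr fun v => hLb.1 ?_⟩
      rw [← h v, hL, hL, map_add, map_smul, map_smul, h1, h2, smul_smul, smul_smul, add_comm]
      simp [mul_comm]
  · rintro ⟨a, s, ha, hs, h | h⟩
    · obtain ⟨⟨g, h1, h2⟩, -⟩ := hback a s ha hs
      refine ⟨g, (hfL g).2 fun v => ?_⟩
      rw [h v, hL, hL, map_add, map_smul, map_smul, h1, h2, smul_smul, smul_smul]
      simp [mul_comm]
    · obtain ⟨-, g, h1, h2⟩ := hback a s ha hs
      refine ⟨g, (hfL g).2 fun v => ?_⟩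
      rw [h v, hL, hL, map_add, map_smul, map_smul, h1, h2, smul_smul, smul_smul, add_comm]
      simp [mul_comm]

end CfsgLib.HalfTransP
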